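import Groth.Agent.Lib.HPi5.Sheaf
import Groth.Agent.Lib.CmpBig24.Main

/-! The pullback from the small étale site to the big ph and h sites. -/

set_option autoImplicit false
set_option linter.style.haveILetI false
set_option linter.unusedSectionVars false
set_option backward.isDefEq.respectTransparency false
set_option backward.isDefEq.respectTransparency.types false

universe u

open CategoryTheory CategoryTheory.Limits AlgebraicGeometry Opposite TopologicalSpace

namespace Groth.Agent.HPi5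

theorem finite_mem_ph {W V : Scheme.{u}} (w : W ⟶ V) [IsFinite w] [Surjective w] :
    Sieve.ofArrows (fun _ : PUnit.{1} => W) (fun _ => w) ∈ HTop.phTopology V := by
  let E : PreZeroHypercover.{0} V := { I₀ := PUnit.{1}, X := fun _ => W, f := fun _ => w }
  refine Precoverage.generate_mem_toGrothendieck ((HTop.presieve₀_mem_phPrecoverage_iff E).2
    ⟨fun _ => inferInstanceAs (LocallyOfFiniteType w), fun U => ?_⟩)
  haveI : IsAffine ((U : V.Opens) : Scheme.{u}) := U.2
  haveI : IsAffine (w ⁻¹ᵁ (U : V.Opens)).toScheme := U.2.preimage w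
  haveI : Surjective (w ∣_ (U : V.Opens)) := IsZariskiLocalAtTarget.restrict ‹Surjective w› _
  refine ⟨{ I₀ := PUnit.{1}, X := fun _ => (w ⁻¹ᵁ (U : V.Opens)).toScheme, f := fun _ => w ∣_ (U : V.Opens) },
    ⟨inferInstance, inferInstanceAs (Finite PUnit.{1}), fun _ => (U.2.preimage w : IsAffine (w ⁻¹ᵁ (U : V.Opens)).toScheme), _, w ∣_ (U : V.Opens), fun _ => 𝟙 _,
      inferInstance, inferInstance, fun _ => inferInstance, fun _ => Category.id_comp _, fun x => ⟨PUnit.unit, x, rfl⟩⟩,
    fun _ => ⟨PUnit.unit, (w ⁻¹ᵁ (U : V.Opens)).ι, (morphismRestrict_ι _ _).symm⟩⟩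

theorem zariski_mem_ph {W : Scheme.{u}} {ι : Type u} (O : ι → W.Opens) (h : ∀ p : W, ∃ i, p ∈ O i) :
    Sieve.ofArrows (fun i => (O i).toScheme) (fun i => (O i).ι) ∈ HTop.phTopology W := by
  let E : PreZeroHypercover.{u} W := { I₀ := ι, X := fun i => (O i).toScheme, f := fun i => (O i).ι }
  refine Precoverage.generate_mem_toGrothendieck ((HTop.presieve₀_mem_phPrecoverage_iff E).2
    ⟨fun i => inferInstanceAs (LocallyOfFiniteType (O i).ι), fun U => ?_⟩)
  haveI : IsAffine ((U : W.Opens) : Scheme.{u}) := U.2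
  choose i hi using h
  have hx : ∀ x : ((U : W.Opens) : Scheme.{u}), ∃ A : ((U : W.Opens) : Scheme.{u}).Opens,
      IsAffineOpen A ∧ x ∈ A ∧ A ≤ (U : W.Opens).ι ⁻¹ᵁ O (i ((U : W.Opens).ι x)) := fun x => by
    obtain ⟨A, hA, hxA, hle⟩ := exists_isAffineOpen_mem_and_subset
      (U := (U : W.Opens).ι ⁻¹ᵁ O (i ((U : W.Opens).ι x))) (hi _ : x ∈ _)
    exact ⟨A, hA, hxA, hle⟩
  choose A hA hxA hle using hx
  obtain ⟨t, ht⟩ := (isCompact_univ (X := ((U : W.Opens) : Scheme.{u}))).elim_finite_subcover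
    (fun x => (A x : Set ((U : W.Opens) : Scheme.{u}))) (fun x => (A x).2) (fun x _ => Set.mem_iUnion.2 ⟨x, hxA x⟩)
  let e := (Fintype.equivFin t).symm
  refine ⟨{ I₀ := Fin (Fintype.card t), X := fun k => (A (e k).1).toScheme, f := fun k => (A (e k).1).ι },
    ⟨inferInstance, inferInstanceAs (Finite (Fin _)), fun k => hA _, _, 𝟙 _, fun k => (A (e k).1).ι,
      inferInstance, inferInstance, fun k => inferInstance, fun k => Category.comp_id _, fun x => ?_⟩,
    fun k => ⟨i ((U : W.Opens).ι (e k).1), (U : W.Opens).ι.resLE _ _ (hle _), Scheme.Hom.resLE_comp_ι _ _⟩⟩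
  obtain ⟨y, hy, hxy⟩ := Set.mem_iUnion₂.1 (ht (Set.mem_univ x))
  refine ⟨e.symm ⟨y, hy⟩, ?_⟩
  show ∃ z : ↥((A (e (e.symm ⟨y, hy⟩)).1).toScheme), (A _).ι z = x
  rw [Equiv.apply_symm_apply]
  exact ⟨⟨x, hxy⟩, rfl⟩

theorem etale_le_ph : Scheme.etalePrecoverage.{u}.toGrothendieck ≤ HTop.phTopology.{u} := by
  rw [Precoverage.toGrothendieck_eq_sInf]
  refine sInf_le fun X R hR => ?_
  choose V W w hx hV hw hws hloc using UoDesc5.rf_of_etale R hR
  refine HTop.phTopology.transitive (zariski_mem_ph V fun x => ⟨x, hx x⟩) _ fun Y f hf => ?_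
  obtain ⟨_, a, _, ⟨x⟩, rfl⟩ := hf
  rw [Sieve.pullback_comp]
  refine HTop.phTopology.pullback_stable a ?_
  haveI := hw x; haveI := hws x
  refine HTop.phTopology.transitive (finite_mem_ph (w x)) _ fun Y' f' hf' => ?_
  obtain ⟨_, a', _, ⟨-⟩, rfl⟩ := hf'
  rw [Sieve.pullback_comp]
  refine HTop.phTopology.pullback_stable a' ?_
  choose O hO hSO using hloc x
  refine HTop.phTopology.superset_covering ?_ (zariski_mem_ph O fun p => ⟨p, hO p⟩)
  rintro Y'' _ ⟨_, a'', _, ⟨p⟩, rfl⟩
  show (Sieve.generate R) (((a'' ≫ (O p).ι) ≫ w x) ≫ (V x).ι)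
  simp only [Category.assoc]
  exact (Sieve.generate R).downward_closed (hSO p) a''

theorem etale_le_h : Scheme.etalePrecoverage.{u}.toGrothendieck ≤ HTop.hTopology.{u} := by
  refine Precoverage.toGrothendieck_mono fun X R hR => ?_
  obtain ⟨E, rfl⟩ := Presieve.exists_eq_preZeroHypercover R
  rw [HTop.presieve₀_mem_hPrecoverage_iff]
  have hE : ∀ i, Etale (E.f i) := fun i => hR.2 ⟨i⟩
  haveI : QuasiCompactCover E := by
    let 𝒰 : X.Cover (Scheme.precoverage @Etale) := { toPreZeroHypercover := E, mem₀ := hR }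
    exact QuasiCompactCover.of_isOpenMap (𝒰 := 𝒰) fun i => (E.f i).isOpenMap
  exact ⟨fun i => inferInstance, HTop26.isVCover_of_flat fun i => inferInstance⟩

variable (S : Scheme.{u})

/-- the pullback to the big Ph site -/
noncomputable def piPh : EtCoh.Ab S ⥤ HTop.AbPh S where
  obj F := ⟨((BigSite.piEtPull Scheme.etalePrecoverage S).obj F).obj, isSheaf_ph (EtFpqc16.isLocal_pi F)⟩
  map φ := ⟨((BigSite.piEtPull Scheme.etalePrecoverage S).map φ).hom⟩
  map_id F := by apply ObjectProperty.hom_ext; exact congrArg (fun t => t.hom) ((BigSite.piEtPull Scheme.etalePrecoverage S).map_id F)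
  map_comp φ ψ := by apply ObjectProperty.hom_ext; exact congrArg (fun t => t.hom) ((BigSite.piEtPull Scheme.etalePrecoverage S).map_comp φ ψ)

/-- a Ph sheaf seen as a sheaf on the big étale site -/
noncomputable def toEtPh : HTop.AbPh S ⥤ BigSite.Ab Scheme.etalePrecoverage S where
  obj G := ⟨G.obj, (Presheaf.isSheaf_iff_isSheaf_forget _ _ (forget AddCommGrpCat.{u + 1})).2
      ((isSheaf_iff_isSheaf_of_type _ _).2
        (Presieve.isSheaf_of_le _ (CmpBig24.over_le etale_le_ph S)
          ((isSheaf_iff_isSheaf_of_type _ _).1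
            ((Presheaf.isSheaf_iff_isSheaf_forget _ _ (forget AddCommGrpCat.{u + 1})).1 G.property))))⟩
  map φ := ⟨φ.hom⟩

noncomputable def toEtPhFullyFaithful : (toEtPh S).FullyFaithful where
  preimage φ := ⟨φ.hom⟩

/-- it is left adjoint to restriction -/
noncomputable def piPhAdj [HTop.APhCont S] : piPh S ⊣ HTop.aPhPush S :=
  (BigSite.piEtAdj Scheme.etalePrecoverage S).restrictFullyFaithful (Functor.FullyFaithful.id _) (toEtPhFullyFaithful S)
    (NatIso.ofComponents (fun _ => Iso.refl _) fun φ => by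
      simp only [Iso.refl_hom, Category.comp_id, Category.id_comp]; rfl)
    ((NatIso.ofComponents (fun _ => Iso.refl _) fun φ => by
      simp only [Iso.refl_hom, Category.comp_id, Category.id_comp]; rfl :
        toEtPh S ⋙ BigSite.resEt Scheme.etalePrecoverage S ≅ HTop.aPhPush S) ≪≫ (HTop.aPhPush S).rightUnitor.symm)

/-- the pullback to the big Ph site -/
noncomputable def isoPh [HTop.APhCont S] : HTop.aPhPull S ≅ piPh S :=
  Adjunction.leftAdjointUniq (HTop.aPhAdj S) (piPhAdj S)

/-- the pullback to the big H site -/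
noncomputable def piH : EtCoh.Ab S ⥤ HTop.AbH S where
  obj F := ⟨((BigSite.piEtPull Scheme.etalePrecoverage S).obj F).obj, isSheaf_h (EtFpqc16.isLocal_pi F)⟩
  map φ := ⟨((BigSite.piEtPull Scheme.etalePrecoverage S).map φ).hom⟩
  map_id F := by apply ObjectProperty.hom_ext; exact congrArg (fun t => t.hom) ((BigSite.piEtPull Scheme.etalePrecoverage S).map_id F)
  map_comp φ ψ := by apply ObjectProperty.hom_ext; exact congrArg (fun t => t.hom) ((BigSite.piEtPull Scheme.etalePrecoverage S).map_comp φ ψ)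

/-- a H sheaf seen as a sheaf on the big étale site -/
noncomputable def toEtH : HTop.AbH S ⥤ BigSite.Ab Scheme.etalePrecoverage S where
  obj G := ⟨G.obj, (Presheaf.isSheaf_iff_isSheaf_forget _ _ (forget AddCommGrpCat.{u + 1})).2
      ((isSheaf_iff_isSheaf_of_type _ _).2
        (Presieve.isSheaf_of_le _ (CmpBig24.over_le etale_le_h S)
          ((isSheaf_iff_isSheaf_of_type _ _).1
            ((Presheaf.isSheaf_iff_isSheaf_forget _ _ (forget AddCommGrpCat.{u + 1})).1 G.property))))⟩
  map φ := ⟨φ.hom⟩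

noncomputable def toEtHFullyFaithful : (toEtH S).FullyFaithful where
  preimage φ := ⟨φ.hom⟩

/-- it is left adjoint to restriction -/
noncomputable def piHAdj [HTop.AHCont S] : piH S ⊣ HTop.aHPush S :=
  (BigSite.piEtAdj Scheme.etalePrecoverage S).restrictFullyFaithful (Functor.FullyFaithful.id _) (toEtHFullyFaithful S)
    (NatIso.ofComponents (fun _ => Iso.refl _) fun φ => by
      simp only [Iso.refl_hom, Category.comp_id, Category.id_comp]; rfl)
    ((NatIso.ofComponents (fun _ => Iso.refl _) fun φ => by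
      simp only [Iso.refl_hom, Category.comp_id, Category.id_comp]; rfl :
        toEtH S ⋙ BigSite.resEt Scheme.etalePrecoverage S ≅ HTop.aHPush S) ≪≫ (HTop.aHPush S).rightUnitor.symm)

/-- the pullback to the big H site -/
noncomputable def isoH [HTop.AHCont S] : HTop.aHPull S ≅ piH S :=
  Adjunction.leftAdjointUniq (HTop.aHAdj S) (piHAdj S)

/-- sections of the pullback to the big étale site -/
theorem nonempty_sections_iso {S X : Scheme.{u}} (F : EtCoh.Ab S) (f : X ⟶ S) :
    Nonempty (((BigSite.piEtPull Scheme.etalePrecoverage S).obj F).obj.obj (op (Over.mk f)) ≅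
      ((EtCoh.pull f).obj F).obj.obj (op (EtCoh.top X))) := by
  let e1 : BigSite.pushBig Scheme.etalePrecoverage f AddCommGrpCat.{u + 1} ⋙ BigSite.resEt Scheme.etalePrecoverage S ≅
      BigSite.resEt Scheme.etalePrecoverage X ⋙ EtCoh.push f :=
    SmallBigBC16.e1 AddCommGrpCat.{u + 1} f
  let e2 := Adjunction.leftAdjointUniq
    ((BigSite.piEtAdj Scheme.etalePrecoverage S).comp (BigSite.bigAdj Scheme.etalePrecoverage f AddCommGrpCat.{u + 1}))
    (((EtCoh.pullPushAdj f).comp (BigSite.piEtAdj Scheme.etalePrecoverage X)).ofNatIsoRight e1.symm)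
  haveI := (Groth.Agent.S6184.result X).2 ((EtCoh.pull f).obj F)
  let e := (BigSite.resEt Scheme.etalePrecoverage X).mapIso (e2.app F) ≪≫
    (asIso ((BigSite.piEtAdj Scheme.etalePrecoverage X).unit.app ((EtCoh.pull f).obj F))).symm
  let t : (Over.map f).obj ((EtFppf.a X).obj (EtCoh.top X)) ≅ Over.mk f := Over.isoMk (Iso.refl _) (by
    show 𝟙 X ≫ f = 𝟙 X ≫ f
    rfl)
  exact ⟨((BigSite.piEtPull Scheme.etalePrecoverage S).obj F).obj.mapIso t.op ≪≫
    ((sheafToPresheaf _ _).mapIso e).app (op (EtCoh.top X))⟩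

end Groth.Agent.HPi5
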