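import Groth.Agent.Lib.UoDesc5.Descent
import Groth.Agent.Lib.HTop26.VCover
import Groth.Agent.S7468
import Groth.Prelude.Def_HTop
import Groth.Prelude.Def_SGA1

/-! Sheaves coming from small étale sites are sheaves for the ph and h topologies. -/

set_option autoImplicit false
set_option linter.style.haveILetI false
set_option linter.unusedSectionVars false
set_option backward.isDefEq.respectTransparency false
set_option backward.isDefEq.respectTransparency.types false

universe u w

open CategoryTheory CategoryTheory.Limits AlgebraicGeometry Opposite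

namespace Groth.Agent.HPi5

open Groth.Agent.EtStalk
open Groth.Agent.EtFpqc16 (IsLocal AgreeAt isOpen_agreeAt mem_J_of_forall eq_of_agreeAt agreeAt_map agreeAt_of_map stalkRes stalkRes_bijective stalkRes_germ)
open Groth.Agent.UoDesc5 (goodTop)

instance : SGA1.UnivSubmersive.{u}.IsStableUnderBaseChange := MorphismProperty.universally_isStableUnderBaseChange _
open HTop26

variable {S : Scheme.{u}} {G : BigSite.Ab Scheme.etalePrecoverage S} (hG : IsLocal G)

variable {U W : Over S} (k : W ⟶ U) (hk : SGA1.UnivSubmersive k.left)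

/-- the fibre product with `W` -/
noncomputable def fib' (Z : Over S) (m : Z ⟶ U) : Over S := Over.mk (pullback.fst m.left k.left ≫ Z.hom)

noncomputable def fibFst (Z : Over S) (m : Z ⟶ U) : fib' k Z m ⟶ Z := Over.homMk (pullback.fst m.left k.left) rfl

noncomputable def fibSnd (Z : Over S) (m : Z ⟶ U) : fib' k Z m ⟶ W := Over.homMk (pullback.snd m.left k.left) (by
  show pullback.snd _ _ ≫ W.hom = pullback.fst _ _ ≫ Z.hom
  rw [← Over.w k, ← Over.w m, pullback.condition_assoc])

theorem fib_w (Z : Over S) (m : Z ⟶ U) : fibFst k Z m ≫ m = fibSnd k Z m ≫ k :=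
  Over.OverMorphism.ext pullback.condition

include hk in
theorem isQuotientMap_fibFst (Z : Over S) (m : Z ⟶ U) : Topology.IsQuotientMap (fibFst k Z m).left :=
  hk _ _ _ (IsPullback.of_hasPullback m.left k.left)

include hk in
theorem surjective_k : Surjective k.left :=
  ⟨(hk _ _ _ (IsPullback.id_vert k.left) : Topology.IsQuotientMap k.left).surjective⟩

include hG hk in
theorem eq_of_fib {Z : Over S} (m : Z ⟶ U) (a b : G.obj.obj (op Z))
    (h : G.obj.map (fibFst k Z m).op a = G.obj.map (fibFst k Z m).op b) : a = b := by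
  refine eq_of_agreeAt a b fun x => ?_
  haveI : Surjective (fibFst k Z m).left := ⟨(isQuotientMap_fibFst k hk Z m).surjective⟩
  obtain ⟨z, rfl⟩ := (fibFst k Z m).left.surjective x
  refine agreeAt_of_map hG _ a b z ?_
  rw [h]
  exact ⟨_, 𝟙 _, inferInstanceAs (Etale (𝟙 _)), ⟨z, rfl⟩, rfl⟩

include hG hk in
theorem exists_local (t : G.obj.obj (op W))
    (ht : ∀ ⦃Z : Over S⦄ (a b : Z ⟶ W), a ≫ k = b ≫ k → G.obj.map a.op t = G.obj.map b.op t) (u : U.left) :
    ∃ (M : Over S) (m : M ⟶ U) (p : M.left) (s : G.obj.obj (op M)), Etale m.left ∧ m.left p = u ∧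
      ∀ ⦃Z : Over S⦄ (a : Z ⟶ M) (b : Z ⟶ W), a ≫ m = b ≫ k → G.obj.map a.op s = G.obj.map b.op t := by
  haveI := surjective_k k hk
  obtain ⟨w, rfl⟩ := k.left.surjective u
  let ξ := geomPt W.left w
  let T : W.left.Etale := EtCoh.top W.left
  let τ : (Over.map U.hom).obj ((Over.map k.left).obj ((EtFppf.a W.left).obj T)) ⟶ W := Over.homMk (𝟙 _) (by
    show 𝟙 _ ≫ W.hom = (𝟙 _ ≫ k.left) ≫ U.hom
    rw [Category.id_comp, Category.id_comp, Over.w k])
  let xT : fib ξ T := Over.homMk ξ (Category.comp_id _)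
  obtain ⟨p₀, hp₀⟩ := (stalkRes_bijective hG U.hom k.left ξ).2 (germ ξ _ xT (G.obj.map τ.op t))
  obtain ⟨E, y, s, rfl⟩ := germ_surjective _ _ p₀
  rw [stalkRes_germ] at hp₀
  let E₀ : Over S := (Over.map U.hom).obj ((EtFppf.a U.left).obj E)
  let m : E₀ ⟶ U := Over.homMk E.hom rfl
  let s₀ : G.obj.obj (op E₀) := s
  haveI : Etale m.left := E.prop
  let A : Set (fib' k E₀ m).left :=
    {z | AgreeAt (G.obj.map (fibFst k E₀ m).op s₀) (G.obj.map (fibSnd k E₀ m).op t) z}
  -- the point above the geometric point is in the agreement locus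
  let gT : (EtCoh.bc k.left).obj E ⟶ T := MorphismProperty.Over.homMk (pullback.snd E.hom k.left) (Category.comp_id _)
  have hxT : (Scheme.pointSmallEtale ξ).fiber.map gT (liftFib k.left ξ y) = xT :=
    Over.OverMorphism.ext (pullback.lift_snd _ _ _)
  rw [← hxT, ← germ_map, germ_eq_iff] at hp₀
  obtain ⟨V, g, yV, hyV, hV⟩ := hp₀
  have hz₀ : fibPt (liftFib k.left ξ y) ∈ A := by
    let e : (Over.map U.hom).obj ((Over.map k.left).obj ((EtFppf.a W.left).obj V)) ⟶ fib' k E₀ m :=
      Over.homMk g.left (by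
        show g.left ≫ pullback.fst E.hom k.left ≫ E.hom ≫ U.hom = (V.hom ≫ k.left) ≫ U.hom
        rw [← MorphismProperty.Over.w g]
        show g.left ≫ pullback.fst E.hom k.left ≫ E.hom ≫ U.hom = ((g.left ≫ pullback.snd E.hom k.left) ≫ k.left) ≫ U.hom
        rw [pullback.condition_assoc, Category.assoc, Category.assoc])
    have hget : Etale g.left := by
      haveI : Etale V.hom := V.prop
      haveI : Etale ((EtCoh.bc k.left).obj E).hom := ((EtCoh.bc k.left).obj E).prop
      haveI : Etale (g.left ≫ ((EtCoh.bc k.left).obj E).hom) := by rw [MorphismProperty.Over.w g]; infer_instance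
      exact Etale.of_comp g.left ((EtCoh.bc k.left).obj E).hom
    refine ⟨_, e, hget, ⟨fibPt yV, ?_⟩, ?_⟩
    · exact (Scheme.Hom.comp_apply _ _ _).symm.trans (congrArg fibPt hyV)
    · have h1 : (Over.map U.hom).map ((Over.map k.left).map ((EtFppf.a W.left).map g)) ≫
          (Over.map U.hom).map (SmallBigBC16.proj k.left E) = e ≫ fibFst k E₀ m := by ext : 1; rfl
      have h2 : (Over.map U.hom).map ((Over.map k.left).map ((EtFppf.a W.left).map g)) ≫
          (Over.map U.hom).map ((Over.map k.left).map ((EtFppf.a W.left).map gT)) ≫ τ = e ≫ fibSnd k E₀ m := by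
        ext : 1
        show g.left ≫ pullback.snd _ _ ≫ 𝟙 _ = g.left ≫ pullback.snd _ _
        simp
      rw [← Functor.map_comp_apply, ← Functor.map_comp_apply, ← op_comp, ← op_comp, ← h1, ← h2, op_comp, op_comp,
        op_comp, Functor.map_comp_apply, Functor.map_comp_apply, Functor.map_comp_apply]
      exact hV
  -- the agreement locus is saturated
  have hsat : ∀ z₁ z₂, (fibFst k E₀ m).left z₁ = (fibFst k E₀ m).left z₂ → z₁ ∈ A → z₂ ∈ A := by
    intro z₁ z₂ hz h₁
    obtain ⟨q, hq₁, hq₂⟩ := Scheme.Pullback.exists_preimage_pullback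
      (f := (fibFst k E₀ m).left) (g := (fibFst k E₀ m).left) z₁ z₂ hz
    let Q : Over S := Over.mk (pullback.fst (fibFst k E₀ m).left (fibFst k E₀ m).left ≫ (fib' k E₀ m).hom)
    let q₁ : Q ⟶ fib' k E₀ m := Over.homMk (pullback.fst _ _) rfl
    let q₂ : Q ⟶ fib' k E₀ m := Over.homMk (pullback.snd _ _) (by
      show pullback.snd _ _ ≫ (fib' k E₀ m).hom = pullback.fst _ _ ≫ (fib' k E₀ m).hom
      rw [← Over.w (fibFst k E₀ m), pullback.condition_assoc])
    have hw : q₁ ≫ fibFst k E₀ m = q₂ ≫ fibFst k E₀ m := Over.OverMorphism.ext pullback.condition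
    have hk : (q₁ ≫ fibSnd k E₀ m) ≫ k = (q₂ ≫ fibSnd k E₀ m) ≫ k := by
      rw [Category.assoc, Category.assoc, ← fib_w, reassoc_of% hw]
    have h := agreeAt_map q₁ _ _ q ((congrArg (fun z => z ∈ A) hq₁).mpr h₁)
    rw [← Functor.map_comp_apply, ← Functor.map_comp_apply, ← op_comp, ← op_comp, hw, ht _ _ hk, op_comp, op_comp,
      Functor.map_comp_apply, Functor.map_comp_apply] at h
    exact (congrArg (fun z => z ∈ A) hq₂).mp (agreeAt_of_map hG q₂ _ _ q h)
  haveI : Surjective (fibFst k E₀ m).left := ⟨(isQuotientMap_fibFst k hk E₀ m).surjective⟩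
  let O : E₀.left.Opens := ⟨(fibFst k E₀ m).left '' A, by
    rw [← (isQuotientMap_fibFst k hk E₀ m).isOpen_preimage]
    convert isOpen_agreeAt (G.obj.map (fibFst k E₀ m).op s₀) (G.obj.map (fibSnd k E₀ m).op t) using 1
    ext z
    exact ⟨fun ⟨z', h', e⟩ => hsat z' z e h', fun h' => ⟨z, h', rfl⟩⟩⟩
  let M : Over S := Over.mk (O.ι ≫ E₀.hom)
  let ι₀ : M ⟶ E₀ := Over.homMk O.ι rfl
  refine ⟨M, ι₀ ≫ m, ⟨(fibFst k E₀ m).left (fibPt (liftFib k.left ξ y)), _, hz₀, rfl⟩, G.obj.map ι₀.op s₀,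
    inferInstanceAs (Etale (O.ι ≫ m.left)), ?_, fun Z a b hab => ?_⟩
  · show (O.ι ≫ E.hom) _ = _
    rw [Scheme.Hom.comp_apply]
    show E.hom ((pullback.fst E.hom k.left) ((liftFib k.left ξ y).left (default : Spec (CommRingCat.of (SeparableClosure (W.left.residueField w)))))) = _
    refine (Scheme.Hom.comp_apply _ _ _).symm.trans ?_
    refine (Scheme.Hom.comp_apply _ _ _).symm.trans ?_
    have e : (liftFib k.left ξ y).left ≫ pullback.fst E.hom k.left ≫ E.hom = ξ ≫ k.left := by
      show pullback.lift _ ξ _ ≫ pullback.fst _ _ ≫ E.hom = _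
      rw [pullback.condition, pullback.lift_snd_assoc]
    refine (congrArg (fun q : Spec (CommRingCat.of (SeparableClosure (W.left.residueField w))) ⟶ U.left => q default) e).trans ?_
    rw [Scheme.Hom.comp_apply, geomPt_default]
  · have hl : (a ≫ ι₀).left ≫ m.left = b.left ≫ k.left := by
      rw [← Over.comp_left, ← Over.comp_left, Category.assoc, hab]
    let l : Z ⟶ fib' k E₀ m := Over.homMk (pullback.lift (a ≫ ι₀).left b.left hl) (by
      show pullback.lift _ _ _ ≫ pullback.fst _ _ ≫ E₀.hom = Z.hom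
      rw [pullback.lift_fst_assoc, Over.w])
    have hl₁ : l ≫ fibFst k E₀ m = a ≫ ι₀ := Over.OverMorphism.ext (pullback.lift_fst _ _ _)
    have hl₂ : l ≫ fibSnd k E₀ m = b := Over.OverMorphism.ext (pullback.lift_snd _ _ _)
    rw [← Functor.map_comp_apply, ← op_comp, ← hl₁, ← hl₂, op_comp, op_comp, Functor.map_comp_apply,
      Functor.map_comp_apply]
    refine eq_of_agreeAt _ _ fun z => agreeAt_map l _ _ z ?_
    have hO : (fibFst k E₀ m).left (l.left z) ∈ O := by
      rw [← Scheme.Hom.comp_apply, ← Over.comp_left, hl₁, Over.comp_left, Scheme.Hom.comp_apply]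
      exact (a.left z).2
    obtain ⟨z', hz', he⟩ := hO
    exact hsat z' _ he hz'

include hG hk in
theorem descends_step : Function.Injective (G.obj.map k.op) ∧
    ∀ t : G.obj.obj (op W), (∀ ⦃Z : Over S⦄ (a b : Z ⟶ W), a ≫ k = b ≫ k → G.obj.map a.op t = G.obj.map b.op t) →
      ∃ s, G.obj.map k.op s = t := by
  refine ⟨fun a b h => ?_, fun t ht => ?_⟩
  · refine eq_of_fib hG k hk (𝟙 U) a b ?_
    have e : fibFst k U (𝟙 U) = fibSnd k U (𝟙 U) ≫ k := (Category.comp_id _).symm.trans (fib_w k U (𝟙 U))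
    rw [e, op_comp, Functor.map_comp_apply, Functor.map_comp_apply, h]
  choose M m p s hm hp hs using fun u => exists_local hG k hk t ht u
  have hsh : Presieve.IsSheaf (QuotSh.J Scheme.etalePrecoverage S) (G.obj ⋙ forget AddCommGrpCat.{u + 1}) :=
    (isSheaf_iff_isSheaf_of_type _ _).1 ((Presheaf.isSheaf_iff_isSheaf_forget _ _ _).1 G.property)
  have hR : Sieve.ofArrows M m ∈ QuotSh.J Scheme.etalePrecoverage S U :=
    mem_J_of_forall _ fun u => ⟨M u, m u, p u, hm u, hp u, Sieve.le_generate _ _ _ ⟨u⟩⟩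
  obtain ⟨s₁, hs₁, -⟩ := (Presieve.isSheafFor_arrows_iff _ _).1 ((Presieve.isSheafFor_iff_generate _).2 (hsh _ hR))
    s fun u v Z gu gv e => eq_of_fib hG k hk (gu ≫ m u) _ _ (by
      show G.obj.map _ (G.obj.map gu.op (s u)) = G.obj.map _ (G.obj.map gv.op (s v))
      rw [← Functor.map_comp_apply, ← Functor.map_comp_apply, ← op_comp, ← op_comp,
        hs u _ (fibSnd k Z (gu ≫ m u)) (by rw [Category.assoc, fib_w]),
        hs v _ (fibSnd k Z (gu ≫ m u)) (by rw [Category.assoc, ← e, fib_w])])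
  refine ⟨s₁, (hsh.isSeparated _ ((QuotSh.J Scheme.etalePrecoverage S).pullback_stable k hR)).ext fun Z h hh => ?_⟩
  obtain ⟨_, v, _, ⟨u⟩, hv⟩ := hh
  show G.obj.map h.op (G.obj.map k.op s₁) = G.obj.map h.op t
  rw [← Functor.map_comp_apply, ← op_comp, ← hv, op_comp, Functor.map_comp_apply]
  exact (congrArg (G.obj.map v.op) (hs₁ u)).trans (hs u v h hv)



include hG in
theorem singleton_mem_goodTop {X' X : Scheme.{u}} (g : X' ⟶ X) (hg : SGA1.UnivSubmersive g) :
    Sieve.generate (Presieve.singleton g) ∈ goodTop (G.obj ⋙ forget AddCommGrpCat.{u + 1}) X := by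
  intro M φ N f
  rw [← Sieve.overEquiv_symm_pullback, ← Sieve.pullback_comp]
  let ψ := f.left ≫ φ
  let W' : Over S := Over.mk (pullback.fst ψ g ≫ N.hom)
  let k : W' ⟶ N := Over.homMk (pullback.fst ψ g) rfl
  have hk : SGA1.UnivSubmersive k.left :=
    MorphismProperty.of_isPullback (P := SGA1.UnivSubmersive) (IsPullback.of_hasPullback ψ g).flip hg
  have e : (Sieve.overEquiv N).symm ((Sieve.generate (Presieve.singleton g)).pullback ψ) =
      Sieve.generate (Presieve.ofArrows (fun _ : PUnit.{1} => W') (fun _ => k)) := by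
    ext Z a
    rw [Sieve.overEquiv_symm_iff]
    constructor
    · rintro ⟨_, b, _, ⟨⟩, hb⟩
      refine ⟨W', Over.homMk (pullback.lift a.left b hb.symm) ?_, k, ⟨PUnit.unit⟩,
        Over.OverMorphism.ext (pullback.lift_fst _ _ _)⟩
      show pullback.lift _ _ _ ≫ pullback.fst _ _ ≫ N.hom = Z.hom
      rw [pullback.lift_fst_assoc, Over.w]
    · rintro ⟨_, b, _, ⟨-⟩, rfl⟩
      refine ⟨X', b.left ≫ pullback.snd ψ g, g, Presieve.singleton_self g, ?_⟩
      show _ = (b.left ≫ pullback.fst ψ g) ≫ ψ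
      rw [Category.assoc, Category.assoc, pullback.condition]
  rw [e, ← Presieve.isSheafFor_iff_generate, Presieve.isSheafFor_arrows_iff]
  intro x hx
  obtain ⟨s, hs⟩ := (descends_step hG k hk).2 (x PUnit.unit) fun Z a b e' => hx PUnit.unit PUnit.unit Z a b e'
  exact ⟨s, fun _ => hs, fun t ht => (descends_step hG k hk).1 ((ht PUnit.unit).trans hs.symm)⟩

include hG in
theorem etale_mem_goodTop {X : Scheme.{u}} (R : Presieve X) (hR : R ∈ Scheme.etalePrecoverage X) :
    Sieve.generate R ∈ goodTop (G.obj ⋙ forget AddCommGrpCat.{u + 1}) X := by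
  intro M φ N f
  rw [← Sieve.overEquiv_symm_pullback, ← Sieve.pullback_comp]
  refine ((isSheaf_iff_isSheaf_of_type _ _).1 ((Presheaf.isSheaf_iff_isSheaf_forget _ _ _).1 G.property)) _ ?_
  rw [GrothendieckTopology.mem_over_iff, OrderIso.apply_symm_apply]
  exact GrothendieckTopology.pullback_stable _ _ (Precoverage.generate_mem_toGrothendieck hR)

theorem isVCover_of_isStandardV {T : Scheme.{u}} {E : PreZeroHypercover.{w} T} (hE : HTop.IsStandardV E) :
    ∀ U : T.affineOpens, ∃ F : PreZeroHypercover.{w} ((U : T.Opens) : Scheme.{u}),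
      HTop.IsStandardV F ∧ HTop.RefinesOver (U : T.Opens).ι F E := fun U => by
  haveI : IsAffine ((U : T.Opens) : Scheme.{u}) := U.2
  exact ⟨E.pullback₁ (U : T.Opens).ι, isStandardV_pullback₁ _ hE, refinesOver_pullback₁_self _ E⟩

include hG in
theorem standardV_mem_goodTop {T : Scheme.{u}} (F : PreZeroHypercover.{0} T) (hF : HTop.IsStandardV F) :
    Sieve.ofArrows F.X F.f ∈ goodTop (G.obj ⋙ forget AddCommGrpCat.{u + 1}) T := by
  let F' : PreZeroHypercover.{u} T := { I₀ := ULift.{u} F.I₀, X := fun i => F.X i.down, f := fun i => F.f i.down }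
  have hF' : HTop.IsVCover F' := isVCover_of_refines (isVCover_of_isStandardV hF)
    fun i => ⟨⟨i⟩, 𝟙 _, (Category.id_comp _).trans (Category.comp_id _).symm⟩
  have hd := univSubmersive_of_isVCover.{0} _ (isVCover_singleton_sigmaDesc hF')
  refine GrothendieckTopology.transitive _ (singleton_mem_goodTop hG _ hd) _ fun Y g hg => ?_
  obtain ⟨_, a, _, ⟨⟩, rfl⟩ := hg
  rw [Sieve.pullback_comp]
  refine GrothendieckTopology.pullback_stable _ a ?_
  refine GrothendieckTopology.superset_covering _ ?_ (etale_mem_goodTop hG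
    (Presieve.ofArrows F'.X (Sigma.ι F'.X)) ((Scheme.ofArrows_mem_precoverage_iff _).2 ⟨fun x => ?_, fun i => ?_⟩))
  · rw [Sieve.generate_le_iff]
    rintro _ _ ⟨i⟩
    show Sieve.ofArrows F.X F.f (Sigma.ι F'.X i ≫ Sigma.desc F'.f)
    rw [Sigma.ι_desc]
    exact Sieve.le_generate _ _ _ ⟨i.down⟩
  · obtain ⟨i, y, hy⟩ := (sigmaOpenCover F'.X).exists_eq x
    exact ⟨i, y, hy⟩
  · exact inferInstanceAs (Etale (Sigma.ι F'.X i))

include hG in
theorem vCover_mem_goodTop {T : Scheme.{u}} (E : PreZeroHypercover.{w} T) (hE : HTop.IsVCover E) :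
    Sieve.ofArrows E.X E.f ∈ goodTop (G.obj ⋙ forget AddCommGrpCat.{u + 1}) T := by
  have hcov : Sieve.ofArrows (fun U : T.affineOpens => ((U : T.Opens) : Scheme.{u})) (fun U => (U : T.Opens).ι) ∈
      goodTop (G.obj ⋙ forget AddCommGrpCat.{u + 1}) T :=
    etale_mem_goodTop hG _ ((Scheme.ofArrows_mem_precoverage_iff _).2 ⟨fun x => by
      obtain ⟨V, hV, hx, -⟩ := exists_isAffineOpen_mem_and_subset (U := ⊤) (TopologicalSpace.Opens.mem_top x)
      exact ⟨⟨V, hV⟩, ⟨x, hx⟩, rfl⟩, fun U => inferInstanceAs (Etale (U : T.Opens).ι)⟩)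
  refine GrothendieckTopology.transitive _ hcov _ fun Y g hg => ?_
  obtain ⟨_, a, _, ⟨U⟩, rfl⟩ := hg
  rw [Sieve.pullback_comp]
  refine GrothendieckTopology.pullback_stable _ a ?_
  obtain ⟨F, hF, hR⟩ := hE U
  refine GrothendieckTopology.superset_covering _ ?_ (standardV_mem_goodTop hG F hF)
  rw [Sieve.generate_le_iff]
  rintro _ _ ⟨j⟩
  obtain ⟨i, h, hh⟩ := hR j
  show Sieve.ofArrows E.X E.f (F.f j ≫ (U : T.Opens).ι)
  rw [← hh]
  exact Sieve.downward_closed _ (Sieve.le_generate _ _ _ ⟨i⟩) h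

theorem isVCover_of_isPhCover {T : Scheme.{u}} {E : PreZeroHypercover.{w} T} (hE : HTop.IsPhCover E) :
    HTop.IsVCover E := fun U => by
  obtain ⟨F, hF, hR⟩ := hE.2 U
  exact ⟨F, Groth.Agent.S7468.result F hF, hR⟩

theorem ofArrows_eq {T : Scheme.{u}} (E : PreZeroHypercover.{w} T) :
    Sieve.generate E.presieve₀ = Sieve.ofArrows E.X E.f := rfl

include hG in
theorem isSheaf_of_le_goodTop {J : GrothendieckTopology Scheme.{u}}
    (h : J ≤ goodTop (G.obj ⋙ forget AddCommGrpCat.{u + 1})) : Presheaf.IsSheaf (J.over S) G.obj := by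
  rw [Presheaf.isSheaf_iff_isSheaf_forget _ _ (forget AddCommGrpCat.{u + 1}), isSheaf_iff_isSheaf_of_type]
  intro M R hR
  have h' := h _ ((GrothendieckTopology.mem_over_iff _ _).1 hR) M (𝟙 _) M (𝟙 _)
  simpa using h'

include hG in
theorem isSheaf_ph : Presheaf.IsSheaf (HTop.Jph S) G.obj := by
  refine isSheaf_of_le_goodTop hG ?_
  rw [HTop.phTopology, Precoverage.toGrothendieck_eq_sInf]
  refine sInf_le fun X R hR => ?_
  obtain ⟨E, rfl⟩ := Presieve.exists_eq_preZeroHypercover R
  exact vCover_mem_goodTop hG E (isVCover_of_isPhCover ((HTop.presieve₀_mem_phPrecoverage_iff E).1 hR))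

include hG in
theorem isSheaf_h : Presheaf.IsSheaf (HTop.Jh S) G.obj := by
  refine isSheaf_of_le_goodTop hG ?_
  rw [HTop.hTopology, Precoverage.toGrothendieck_eq_sInf]
  refine sInf_le fun X R hR => ?_
  obtain ⟨E, rfl⟩ := Presieve.exists_eq_preZeroHypercover R
  exact vCover_mem_goodTop hG E ((HTop.presieve₀_mem_hPrecoverage_iff E).1 hR).2

end Groth.Agent.HPi5
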